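import Groth.Agent.EGA43.OpenAt
import Groth.Agent.EGA43.DimFormula.Levels

/-!
# Universal openness at a point is local on the local scheme of the base
-/

set_option autoImplicit false
set_option backward.isDefEq.respectTransparency false
set_option linter.style.haveILetI false

universe u

open CategoryTheory CategoryTheory.Limits AlgebraicGeometry TopologicalSpace

namespace Groth.Agent.EGA43.UnivOpenLocal

open Groth.Agent

variable {X Y : Scheme.{u}}

/-- For a morphism locally of finite presentation openness at a point is tested on generizations. -/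
theorem isOpenAt_of_forall_generization (q : X ⟶ Y) [LocallyOfFinitePresentation q] (x : X)
    (h : ∀ U : Set X, IsOpen U → x ∈ U → ∀ y, y ⤳ q x → y ∈ q.base '' U) : EGA43.IsOpenAt q.base x := by
  intro U hU
  obtain ⟨U₀, hU₀U, hU₀, hxU₀⟩ := mem_nhds_iff.1 hU
  obtain ⟨V, hV, hxV, -⟩ := exists_isAffineOpen_mem_and_subset (x := q x) (U := ⊤) trivial
  obtain ⟨W, hW, hxW, hWsub⟩ := exists_isAffineOpen_mem_and_subset (x := x)
    (U := (⟨U₀, hU₀⟩ : X.Opens) ⊓ q ⁻¹ᵁ V) ⟨hxU₀, hxV⟩
  haveI : IsAffine V.toScheme := hV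
  haveI : IsAffine W.toScheme := hW
  let q' := q.resLE V W (fun a ha => (hWsub ha).2)
  haveI : LocallyOfFinitePresentation q' := IsZariskiLocalAtSource.resLE _ inferInstance
  have hq' : ∀ a : W.toScheme, V.ι (q' a) = q (W.ι a) := fun a =>
    congrArg (fun φ : W.toScheme ⟶ Y => φ a) (q.resLE_comp_ι _)
  have hC := q'.isLocallyConstructible_image (Topology.IsLocallyConstructible.univ (X := W.toScheme))
  have hn : q'.base '' Set.univ ∈ nhds (⟨q x, hxV⟩ : V.toScheme) := by
    refine DimFormula.mem_nhds_of_isLocallyConstructible hC fun v hv => ?_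
    obtain ⟨a, ha, hav⟩ := h W W.isOpen hxW (V.ι v) (hv.map V.ι.continuous)
    exact ⟨⟨a, ha⟩, trivial, V.ι.injective ((hq' ⟨a, ha⟩).trans hav)⟩
  refine Filter.mem_of_superset (V.ι.isOpenEmbedding.isOpenMap.image_mem_nhds hn) ?_
  rintro _ ⟨_, ⟨a, -, rfl⟩, rfl⟩
  exact ⟨W.ι a, hU₀U (hWsub a.2).1, (hq' a).symm⟩

theorem isUnivOpenAt_iff_fromSpecStalk (f : X ⟶ Y) [LocallyOfFinitePresentation f]
    (x : X) (x₁ : ↥(pullback f (Y.fromSpecStalk (f.base x))))
    (hx₁ : (pullback.fst f (Y.fromSpecStalk (f.base x))).base x₁ = x) :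
    EGA43.IsUnivOpenAt f x ↔ EGA43.IsUnivOpenAt (pullback.snd f (Y.fromSpecStalk (f.base x))) x₁ := by
  refine ⟨fun h => EGA43.isUnivOpenAt_of_isPullback h (IsPullback.of_hasPullback _ _) hx₁, fun h => ?_⟩
  intro Y' g x' hx'
  let q := pullback.snd f g
  haveI : LocallyOfFinitePresentation q := MorphismProperty.pullback_snd _ _ inferInstance
  refine isOpenAt_of_forall_generization q x' fun U hU hxU y hy => ?_
  let i := Y'.fromSpecStalk (q x')
  have hgy : g (q x') = f x := by
    rw [← hx']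
    exact (congrArg (fun φ : pullback f g ⟶ Y => φ x') pullback.condition).symm
  let m : Spec (Y'.presheaf.stalk (q x')) ⟶ Spec (Y.presheaf.stalk (f.base x)) :=
    Spec.map ((Y.presheaf.stalkCongr (.of_eq hgy)).inv ≫ g.stalkMap (q x'))
  have hm : m ≫ Y.fromSpecStalk (f.base x) = i ≫ g := by
    simp only [m, Spec.map_comp, Category.assoc, Scheme.SpecMap_stalkSpecializes_fromSpecStalk,
      TopCat.Presheaf.stalkCongr_inv, Scheme.SpecMap_stalkMap_fromSpecStalk, i]
  let P := pullback (pullback.snd f (Y.fromSpecStalk (f.base x))) m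
  have sq₁ := (IsPullback.of_hasPullback (pullback.snd f (Y.fromSpecStalk (f.base x))) m).paste_horiz
    (IsPullback.of_hasPullback f (Y.fromSpecStalk (f.base x)))
  rw [hm] at sq₁
  let r : P ⟶ pullback f g := pullback.lift (pullback.fst _ _ ≫ pullback.fst _ _) (pullback.snd _ _ ≫ i)
    (by rw [Category.assoc]; exact sq₁.w)
  have sq : IsPullback r (pullback.snd _ _) q i := by
    refine IsPullback.of_right ?_ (pullback.lift_snd _ _ _) (IsPullback.of_hasPullback f g)
    rw [pullback.lift_fst]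
    exact sq₁
  obtain ⟨c, hc⟩ : ∃ c, i c = q x' := ⟨_, Scheme.fromSpecStalk_closedPoint⟩
  obtain ⟨z₀, hz₀1, hz₀2⟩ := Scheme.Pullback.exists_preimage_pullback (f := q) (g := i) x' c hc.symm
  let z := sq.isoPullback.inv z₀
  have hz1 : r z = x' :=
    (congrArg (fun φ : pullback q i ⟶ pullback f g => φ z₀) sq.isoPullback_inv_fst).trans hz₀1
  have hz2 : pullback.snd (pullback.snd f (Y.fromSpecStalk (f.base x))) m z = c :=
    (congrArg (fun φ : pullback q i ⟶ Spec (Y'.presheaf.stalk (q x')) => φ z₀) sq.isoPullback_inv_snd).trans hz₀2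
  have hzx : (pullback.fst (pullback.snd f (Y.fromSpecStalk (f.base x))) m).base z = x₁ := by
    refine (pullback.fst f (Y.fromSpecStalk (f.base x))).isEmbedding.injective ?_
    refine Eq.trans ?_ hx₁.symm
    refine Eq.trans ?_ hx'
    have h1 : pullback.fst f g (r z) =
        pullback.fst f (Y.fromSpecStalk (f.base x)) (pullback.fst (pullback.snd f (Y.fromSpecStalk (f.base x))) m z) :=
      congrArg (fun φ : P ⟶ X => φ z) (pullback.lift_fst _ _ _)
    rw [hz1] at h1
    exact h1.symm
  have ho := h _ m z hzx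
  have hn := ho (r.base ⁻¹' U) ((hU.preimage r.continuous).mem_nhds (show r z ∈ U by rw [hz1]; exact hxU))
  obtain ⟨c', hc'⟩ : ∃ c', i c' = y := by
    have : y ∈ Set.range i := by
      rw [Scheme.range_fromSpecStalk]
      exact hy
    exact this
  have hsp : c' ⤳ (pullback.snd (pullback.snd f (Y.fromSpecStalk (f.base x))) m) z :=
    i.isEmbedding.toIsInducing.specializes_iff.1 (by rw [hz2, hc, hc']; exact hy)
  obtain ⟨w, hw, hwc⟩ := mem_of_mem_nhds (hsp hn)
  refine ⟨r w, hw, ?_⟩
  rw [← hc', ← hwc]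
  exact congrArg (fun φ : P ⟶ Y' => φ w) (pullback.lift_snd _ _ _)

end Groth.Agent.EGA43.UnivOpenLocal
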